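import Mathlib.CategoryTheory.Triangulated.Functor
import Mathlib.CategoryTheory.Triangulated.Triangulated
import Mathlib.CategoryTheory.Linear.Basic
import Mathlib.CategoryTheory.Shift.Linear
import Mathlib.LinearAlgebra.Dual.Lemmas

/-!
# Serre functors are exact (Bondal–Kapranov)
-/

set_option autoImplicit false
set_option linter.style.haveILetI false
set_option backward.isDefEq.respectTransparency false
set_option backward.isDefEq.respectTransparency.types false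

universe w v u

open CategoryTheory Category Limits Pretriangulated

namespace Groth.Agent.SerreTri

variable {k : Type w} [Field k]
  {T : Type u} [Category.{v} T] [Preadditive T] [Linear k T]
  [∀ X Y : T, Module.Finite k (X ⟶ Y)]
  {S : T ≌ T} (c : ∀ X Y : T, (X ⟶ Y) ≃ₗ[k] Module.Dual k (Y ⟶ S.functor.obj X))
  (hc₁ : ∀ (X Y Y' : T) (f : X ⟶ Y) (g : Y ⟶ Y'),
    c X Y' (f ≫ g) = (c X Y f) ∘ₗ Linear.leftComp k (S.functor.obj X) g)
  (hc₂ : ∀ (X' X Y : T) (a : X' ⟶ X) (f : X ⟶ Y),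
    c X' Y (a ≫ f) = (c X Y f) ∘ₗ Linear.rightComp k Y (S.functor.map a))

/-- the trace form -/
noncomputable def tr (X : T) : (X ⟶ S.functor.obj X) →ₗ[k] k := c X X (𝟙 X)

include hc₁ in
lemma c_apply {X Y : T} (f : X ⟶ Y) (g : Y ⟶ S.functor.obj X) : c X Y f g = tr c X (f ≫ g) := by
  have := hc₁ X X Y (𝟙 X) f
  rw [id_comp] at this
  rw [this]
  rfl

include hc₁ hc₂ in
lemma tr_cyclic {X' X : T} (a : X' ⟶ X) (g : X ⟶ S.functor.obj X') :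
    tr c X' (a ≫ g) = tr c X (g ≫ S.functor.map a) := by
  rw [← c_apply c hc₁]
  have := hc₂ X' X X a (𝟙 X)
  rw [comp_id] at this
  rw [this]
  rfl

include hc₁ in
lemma ext_right {X Y : T} {g g' : Y ⟶ S.functor.obj X} (h : ∀ f : X ⟶ Y, tr c X (f ≫ g) = tr c X (f ≫ g')) :
    g = g' := by
  refine (Module.evalEquiv k (Y ⟶ S.functor.obj X)).injective (LinearMap.ext fun ψ => ?_)
  obtain ⟨f, rfl⟩ := (c X Y).surjective ψ
  rw [Module.evalEquiv_apply, Module.evalEquiv_apply, Module.Dual.eval_apply, Module.Dual.eval_apply,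
    c_apply c hc₁, c_apply c hc₁, h f]

include hc₁ in
lemma exists_right {X Y : T} (ψ : (X ⟶ Y) →ₗ[k] k) :
    ∃ g : Y ⟶ S.functor.obj X, ∀ f, tr c X (f ≫ g) = ψ f := by
  obtain ⟨g, hg⟩ := (Module.evalEquiv k (Y ⟶ S.functor.obj X)).surjective (ψ ∘ₗ (c X Y).symm.toLinearMap)
  refine ⟨g, fun f => ?_⟩
  have := LinearMap.congr_fun hg (c X Y f)
  rw [Module.evalEquiv_apply, Module.Dual.eval_apply, c_apply c hc₁] at this
  simpa using this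

omit [∀ X Y : T, Module.Finite k (X ⟶ Y)] in
lemma exists_factor {M N : Type*} [AddCommGroup M] [Module k M] [AddCommGroup N] [Module k N]
    (L : M →ₗ[k] N) (ψ : M →ₗ[k] k) (h : ∀ m, L m = 0 → ψ m = 0) :
    ∃ Φ : N →ₗ[k] k, ∀ m, Φ (L m) = ψ m := by
  have : ψ ∈ LinearMap.range L.dualMap := by
    rw [LinearMap.range_dualMap_eq_dualAnnihilator_ker, Submodule.mem_dualAnnihilator]
    exact h
  obtain ⟨Φ, rfl⟩ := this
  exact ⟨Φ, fun m => rfl⟩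

include hc₁ hc₂ in
/-- exact sequences for contravariant Hom become exact sequences into the image under `S` -/
lemma exact_map {X₁ X₂ X₃ : T} (a : X₁ ⟶ X₂) (b : X₂ ⟶ X₃) {Z : T}
    (hex : ∀ x : X₂ ⟶ Z, a ≫ x = 0 → ∃ y : X₃ ⟶ Z, x = b ≫ y) (x : Z ⟶ S.functor.obj X₂)
    (hx : x ≫ S.functor.map b = 0) : ∃ y : Z ⟶ S.functor.obj X₁, x = y ≫ S.functor.map a := by
  obtain ⟨Φ, hΦ⟩ := exists_factor (Linear.leftComp k Z a)
    ((tr c X₂) ∘ₗ Linear.rightComp k X₂ x) (fun m hm => by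
      obtain ⟨y, rfl⟩ := hex m hm
      change tr c X₂ ((b ≫ y) ≫ x) = 0
      rw [assoc, tr_cyclic c hc₁ hc₂, assoc, hx, comp_zero, map_zero])
  obtain ⟨y, hy⟩ := exists_right c hc₁ Φ
  refine ⟨y, ext_right c hc₁ fun m => ?_⟩
  have := hy (a ≫ m)
  rw [assoc, tr_cyclic c hc₁ hc₂, assoc] at this
  rw [this]
  exact (hΦ m).symm

section Shift

variable [HasShift T ℤ] [∀ n : ℤ, (shiftFunctor T n).Additive] [∀ n : ℤ, (shiftFunctor T n).Linear k]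

/-- preimage under the shift, as a linear map -/
noncomputable def unshift (X Y : T) : (X⟦(1 : ℤ)⟧ ⟶ Y⟦(1 : ℤ)⟧) →ₗ[k] (X ⟶ Y) where
  toFun f := (shiftFunctor T (1 : ℤ)).preimage f
  map_add' f g := (shiftFunctor T (1 : ℤ)).map_injective (by simp)
  map_smul' r f := (shiftFunctor T (1 : ℤ)).map_injective (by simp)

omit [∀ X Y : T, Module.Finite k (X ⟶ Y)] in
lemma unshift_map {X Y : T} (f : X ⟶ Y) : unshift (k := k) X Y (f⟦(1 : ℤ)⟧') = f :=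
  (shiftFunctor T (1 : ℤ)).map_injective ((shiftFunctor T (1 : ℤ)).map_preimage _)

include hc₁ in
/-- the comparison `(SX)[1] ⟶ S(X[1])` -/
lemma exists_u (X : T) : ∃ u : (S.functor.obj X)⟦(1 : ℤ)⟧ ⟶ S.functor.obj (X⟦(1 : ℤ)⟧),
    ∀ f, tr c (X⟦(1 : ℤ)⟧) (f ≫ u) = - tr c X (unshift (k := k) X (S.functor.obj X) f) :=
  exists_right c hc₁ (-((tr c X) ∘ₗ unshift (k := k) X (S.functor.obj X)))

/-- the comparison `(SX)[1] ⟶ S(X[1])` -/
noncomputable def cu (X : T) : (S.functor.obj X)⟦(1 : ℤ)⟧ ⟶ S.functor.obj (X⟦(1 : ℤ)⟧) :=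
  (exists_u c hc₁ X).choose

lemma tr_cu {X : T} (f : X ⟶ S.functor.obj X) :
    tr c (X⟦(1 : ℤ)⟧) (f⟦(1 : ℤ)⟧' ≫ cu c hc₁ X) = - tr c X f := by
  rw [cu, (exists_u c hc₁ X).choose_spec, unshift_map]

lemma cu_inj {X Y : T} (g : Y ⟶ (S.functor.obj X)⟦(1 : ℤ)⟧) (h : g ≫ cu c hc₁ X = 0) : g = 0 := by
  obtain ⟨Z, ⟨i⟩⟩ : ∃ Z : T, Nonempty (Z⟦(1 : ℤ)⟧ ≅ Y) :=
    ⟨_, ⟨(shiftFunctor T (1 : ℤ)).objObjPreimageIso Y⟩⟩
  obtain ⟨g', hg'⟩ := (shiftFunctor T (1 : ℤ)).map_surjective (i.hom ≫ g)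
  have : g' = 0 := ext_right c hc₁ fun f => by
    have := tr_cu c hc₁ (f ≫ g')
    rw [Functor.map_comp, assoc, hg', assoc, h, comp_zero, comp_zero, map_zero, eq_comm, neg_eq_zero] at this
    rw [this, comp_zero, map_zero]
  rw [← cancel_epi i.hom, ← hg', this, Functor.map_zero, comp_zero]

lemma cu_surj {X Y : T} (x : Y ⟶ S.functor.obj (X⟦(1 : ℤ)⟧)) :
    ∃ g : Y ⟶ (S.functor.obj X)⟦(1 : ℤ)⟧, g ≫ cu c hc₁ X = x := by
  obtain ⟨Z, ⟨i⟩⟩ : ∃ Z : T, Nonempty (Z⟦(1 : ℤ)⟧ ≅ Y) :=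
    ⟨_, ⟨(shiftFunctor T (1 : ℤ)).objObjPreimageIso Y⟩⟩
  obtain ⟨g', hg'⟩ := exists_right c hc₁
    (-((tr c (X⟦(1 : ℤ)⟧)) ∘ₗ Linear.rightComp k (X⟦(1 : ℤ)⟧) (i.hom ≫ x) ∘ₗ
      (shiftFunctor T (1 : ℤ)).mapLinearMap k))
  refine ⟨i.inv ≫ g'⟦(1 : ℤ)⟧', ?_⟩
  rw [assoc, ← cancel_epi i.hom, Iso.hom_inv_id_assoc]
  refine ext_right c hc₁ fun f => ?_
  obtain ⟨f', rfl⟩ := (shiftFunctor T (1 : ℤ)).map_surjective f
  rw [← Functor.map_comp_assoc, tr_cu, hg']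
  simp

instance (X : T) : IsIso (cu c hc₁ X) := by
  obtain ⟨g, hg⟩ := cu_surj c hc₁ (𝟙 (S.functor.obj (X⟦(1 : ℤ)⟧)))
  refine ⟨g, ?_, hg⟩
  rw [← sub_eq_zero]
  refine cu_inj c hc₁ _ ?_
  rw [Preadditive.sub_comp, assoc, hg, comp_id, id_comp, sub_self]

include hc₂ in
lemma cu_natural {X X' : T} (a : X ⟶ X') :
    (S.functor.map a)⟦(1 : ℤ)⟧' ≫ cu c hc₁ X' = cu c hc₁ X ≫ S.functor.map (a⟦(1 : ℤ)⟧') := by
  refine ext_right c hc₁ fun f => ?_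
  obtain ⟨f', rfl⟩ := (shiftFunctor T (1 : ℤ)).map_surjective f
  rw [← Functor.map_comp_assoc, tr_cu, ← assoc, ← tr_cyclic c hc₁ hc₂ (a⟦(1 : ℤ)⟧'), ← Functor.map_comp_assoc,
    tr_cu, ← tr_cyclic c hc₁ hc₂ a]

end Shift

section Triangulated

variable [HasZeroObject T] [HasShift T ℤ] [∀ n : ℤ, (shiftFunctor T n).Additive]
  [∀ n : ℤ, (shiftFunctor T n).Linear k] [Pretriangulated T] [S.functor.Additive]

include hc₁ hc₂ in
/-- a Serre functor is exact -/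
theorem isTriangulated :
    ∃ e : shiftFunctor T (1 : ℤ) ⋙ S.functor ≅ S.functor ⋙ shiftFunctor T (1 : ℤ),
      ∀ T' ∈ distTriang T,
        Triangle.mk (S.functor.map T'.mor₁) (S.functor.map T'.mor₂)
          (S.functor.map T'.mor₃ ≫ e.hom.app T'.obj₁) ∈ distTriang T := by
  let e : shiftFunctor T (1 : ℤ) ⋙ S.functor ≅ S.functor ⋙ shiftFunctor T (1 : ℤ) :=
    (NatIso.ofComponents (fun X => asIso (cu c hc₁ X)) (fun a => cu_natural c hc₁ hc₂ a)).symm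
  refine ⟨e, ?_⟩
  rintro ⟨A, B, C, f, g, h⟩ hT
  change Triangle.mk (S.functor.map f) (S.functor.map g) (S.functor.map h ≫ inv (cu c hc₁ A)) ∈ _
  obtain ⟨C₀, p, q, hT₀⟩ := distinguished_cocone_triangle (S.functor.map f)
  let ψ : ((C ⟶ S.functor.obj B) × (A⟦(1 : ℤ)⟧ ⟶ C₀)) →ₗ[k] k :=
    LinearMap.coprod ((tr c B) ∘ₗ Linear.leftComp k (S.functor.obj B) g)
      ((tr c (A⟦(1 : ℤ)⟧)) ∘ₗ Linear.rightComp k (A⟦(1 : ℤ)⟧) (q ≫ cu c hc₁ A))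
  obtain ⟨Φ, hΦ⟩ := exists_factor (LinearMap.coprod (Linear.rightComp k C p) (Linear.leftComp k C₀ h)) ψ
    (by
      rintro ⟨v, x⟩ hvx
      change v ≫ p + h ≫ x = 0 at hvx
      change tr c B (g ≫ v) + tr c (A⟦(1 : ℤ)⟧) (x ≫ q ≫ cu c hc₁ A) = 0
      obtain ⟨z, hz₂, hz₃⟩ := complete_distinguished_triangle_morphism _ _
        (rot_of_distTriang _ (rot_of_distTriang _ hT)) (rot_of_distTriang _ hT₀) (-v) x (by
          change h ≫ x = (-v) ≫ p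
          rw [Preadditive.neg_comp, eq_neg_iff_add_eq_zero, add_comm]
          exact hvx)
      obtain ⟨z₀, hz₀⟩ := (shiftFunctor T (1 : ℤ)).map_surjective
        (z : B⟦(1 : ℤ)⟧ ⟶ (S.functor.obj A)⟦(1 : ℤ)⟧)
      change (-f⟦(1 : ℤ)⟧') ≫ z = x ≫ q at hz₂
      change (-g⟦(1 : ℤ)⟧') ≫ (-v)⟦(1 : ℤ)⟧' = z ≫ (-(S.functor.map f)⟦(1 : ℤ)⟧') at hz₃
      rw [← hz₀, Preadditive.neg_comp, ← Functor.map_comp, ← Functor.map_neg] at hz₂
      rw [← hz₀, Functor.map_neg, Preadditive.neg_comp, Preadditive.comp_neg, Preadditive.comp_neg, neg_neg,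
        ← Functor.map_comp, ← Functor.map_comp, ← Functor.map_neg] at hz₃
      rw [(shiftFunctor T (1 : ℤ)).map_injective hz₃, ← assoc, ← hz₂, tr_cu, map_neg, map_neg, neg_neg,
        tr_cyclic c hc₁ hc₂ f, neg_add_cancel])
  obtain ⟨ξ, hξ⟩ := exists_right c hc₁ Φ
  have hξ₁ : p ≫ ξ = S.functor.map g := ext_right c hc₁ fun v => by
    have := hΦ (v, 0)
    simp [ψ] at this
    rw [← assoc, hξ, this, tr_cyclic c hc₁ hc₂]
  have hξ₂ : ξ ≫ S.functor.map h = q ≫ cu c hc₁ A := ext_right c hc₁ fun x => by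
    have := hΦ (0, x)
    simp [ψ] at this
    rw [← assoc x ξ, ← tr_cyclic c hc₁ hc₂ h, ← assoc h x, hξ, this]
  have hfg : f ≫ g = 0 := comp_distTriang_mor_zero₁₂ _ hT
  have hgh : g ≫ h = 0 := comp_distTriang_mor_zero₂₃ _ hT
  have hhf : h ≫ f⟦(1 : ℤ)⟧' = 0 := comp_distTriang_mor_zero₃₁ _ hT
  have inj : ∀ (Z : T) (x : Z ⟶ C₀), x ≫ ξ = 0 → x = 0 := by
    intro Z x hx
    have hxq : x ≫ q = 0 := cu_inj c hc₁ _ (by rw [assoc, ← hξ₂, reassoc_of% hx, zero_comp])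
    obtain ⟨y₀, hy⟩ := Triangle.coyoneda_exact₃ _ hT₀ x hxq
    let y : Z ⟶ S.functor.obj B := y₀
    change x = y ≫ p at hy
    rw [hy, assoc, hξ₁] at hx
    obtain ⟨z, hz⟩ := exact_map c hc₁ hc₂ f g (fun m hm => Triangle.yoneda_exact₂ _ hT m hm) y hx
    rw [hy, hz, assoc]
    exact (congrArg (z ≫ ·) (comp_distTriang_mor_zero₁₂ _ hT₀)).trans comp_zero
  have surj : ∀ (Z : T) (x : Z ⟶ S.functor.obj C), ∃ y : Z ⟶ C₀, y ≫ ξ = x := by
    intro Z x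
    obtain ⟨y₀, hy⟩ := Triangle.coyoneda_exact₁ _ hT₀ (x ≫ S.functor.map h ≫ inv (cu c hc₁ A)) (by
      change (x ≫ S.functor.map h ≫ inv (cu c hc₁ A)) ≫ (S.functor.map f)⟦(1 : ℤ)⟧' = 0
      rw [← cancel_mono (cu c hc₁ B), zero_comp, assoc, assoc, assoc, cu_natural c hc₁ hc₂,
        IsIso.inv_hom_id_assoc, ← Functor.map_comp, hhf, Functor.map_zero, comp_zero])
    let y : Z ⟶ C₀ := y₀
    change x ≫ S.functor.map h ≫ inv (cu c hc₁ A) = y ≫ q at hy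
    obtain ⟨z, hz⟩ := exact_map c hc₁ hc₂ g h (fun m hm => Triangle.yoneda_exact₃ _ hT m hm) (x - y ≫ ξ) (by
      rw [Preadditive.sub_comp, assoc, hξ₂, ← assoc y, ← hy]
      simp)
    refine ⟨y + z ≫ p, ?_⟩
    rw [Preadditive.add_comp, assoc, hξ₁, ← hz, add_sub_cancel]
  haveI : IsIso ξ := by
    obtain ⟨η, hη⟩ := surj _ (𝟙 (S.functor.obj C))
    refine ⟨η, sub_eq_zero.1 (inj _ _ ?_), hη⟩
    rw [Preadditive.sub_comp, assoc, hη, comp_id, id_comp, sub_self]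
  refine isomorphic_distinguished _ hT₀ _ (Iso.symm ?_)
  refine Triangle.isoMk _ _ (Iso.refl _) (Iso.refl _) (asIso ξ) ?_ ?_ ?_
  · simp
  · simpa using hξ₁
  · simp [reassoc_of% hξ₂]

end Triangulated

end Groth.Agent.SerreTri
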